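import Groth.Agent.AmpleX.Generated
import Groth.Agent.AmpleX.Separated
import Groth.Agent.FTDescent.Basic
import Groth.Agent.FDescent.StalkFinite
import Groth.Agent.InvX.GenEpi
import Groth.Agent.SlopeBound.Basic
import Groth.Agent.H23.PicInv
import Groth.Agent.Lib.CurveHiggs

/-!
# Ample invertible modules give the resolution property
-/

set_option linter.style.haveILetI false
set_option backward.isDefEq.respectTransparency false
set_option backward.isDefEq.respectTransparency.types false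

universe u

open CategoryTheory CategoryTheory.Limits AlgebraicGeometry TopologicalSpace Opposite

namespace Groth.Agent.ResPropLib

open Groth.Agent

variable {X : Scheme.{u}}

/-- Generating global sections of a module of finite type on a compact scheme: finitely many suffice. -/
theorem exists_fin_generatedBy [CompactSpace X] (N : X.Modules)
    [SheafOfModules.IsFiniteType (R := X.ringCatSheaf) N]
    (hfg : ∀ x : X, Module.Finite (X.presheaf.stalk x) (N.presheaf.stalk x))
    {ι : Type*} {s : ι → Γ(N, ⊤)} (hs : ProjUP.GeneratedBy N s) :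
    ∃ (k : ℕ) (t : Fin k → Γ(N, ⊤)), ProjUP.GeneratedBy N t := by
  classical
  have hpt : ∀ x : X, ∃ (S : Finset ι) (U : X.Opens), x ∈ U ∧ ∀ (x' : X), x' ∈ U →
      Submodule.span (X.presheaf.stalk x')
        ((fun i => N.presheaf.germ ⊤ x' trivial (s i)) '' (S : Set ι)) = ⊤ := fun x => by
    have hx := hs x
    obtain ⟨T, hTsub, hT'⟩ := (Submodule.fg_span_iff_fg_span_finset_subset
      (R := X.presheaf.stalk x) (Set.range fun i => (N.presheaf.germ ⊤ x trivial).hom (s i))).1
      (by rw [hx]; exact (hfg x).fg_top)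
    have hT : Submodule.span (X.presheaf.stalk x) (T : Set (N.presheaf.stalk x)) = ⊤ := hT'.symm.trans hx
    let S : Finset ι := T.attach.image fun y => (hTsub y.2).choose
    let e := S.equivFin
    obtain ⟨U, hU, hxU, hspan⟩ := FTDescent.exists_nhd_span_eq_top N (U₀ := ⊤)
      (fun j => s (e.symm j).1) (x := x) trivial (by
        refine top_le_iff.1 (hT.ge.trans (Submodule.span_mono ?_))
        intro y hy
        refine ⟨e ⟨_, Finset.mem_image.2 ⟨⟨y, hy⟩, Finset.mem_attach _ _, rfl⟩⟩, ?_⟩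
        simp only [Equiv.symm_apply_apply]
        exact (hTsub hy).choose_spec)
    refine ⟨S, U, hxU, fun x' hx' => top_le_iff.1 ((hspan x' hx').ge.trans (Submodule.span_mono ?_))⟩
    rintro _ ⟨j, rfl⟩
    exact ⟨(e.symm j).1, (e.symm j).2, rfl⟩
  choose S U hxU hspan using hpt
  obtain ⟨F, hF⟩ := isCompact_univ.elim_finite_subcover (fun x => (U x : Set X)) (fun x => (U x).2)
    (fun x _ => Set.mem_iUnion.2 ⟨x, hxU x⟩)
  let e := (F.biUnion S).equivFin
  refine ⟨_, fun j => s (e.symm j).1, fun x => ?_⟩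
  obtain ⟨y, hy, hxy⟩ := Set.mem_iUnion₂.1 (hF (Set.mem_univ x))
  refine top_le_iff.1 ((hspan y x hxy).ge.trans (Submodule.span_mono ?_))
  rintro _ ⟨i, hi, rfl⟩
  exact ⟨e ⟨i, Finset.mem_biUnion.2 ⟨y, hy, hi⟩⟩, by simp⟩

/-- An ample invertible module gives the resolution property. -/
theorem hasResolutionProperty_of_isAmple {L : X.Modules} (hL : CohB1.IsAmple L)
    (M : X.Modules) (hM : Coh.IsQCoh M) (hft : CohB1.IsFT M) :
    ∃ (E : X.Modules) (π : E ⟶ M), FlatMod.IsFinLocFree E ∧ Epi π := by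
  haveI := hL.2.1
  haveI := AmpleX.isSeparated_of_isAmple hL
  obtain ⟨n, h⟩ := AmpleX.eventually_generated hL hM hft
  obtain ⟨G, iso, ι, s, hs⟩ := h n le_rfl
  have hP := InvX.isInvertible_tensorPow hL.1 n
  obtain ⟨D, hD, ⟨e0⟩⟩ := H23.PicInv.exists_inverse hP
  have e0' : (DCoh.tensorBi.obj (CohB1.tensorPow L n)).obj D ≅ Coh.structureModule X := e0
  let E := CurveHiggs.twistEquiv
    (A := D) (B := CohB1.tensorPow L n) (CurveTensor.commIso D (CohB1.tensorPow L n) ≪≫ e0')
  have hD1 := InvEnd.isFinLocFreeOfRank_one hD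
  have hDf : FlatMod.IsFinLocFree D := fun x => let ⟨U, hx, h⟩ := hD1 x; ⟨U, 1, hx, h⟩
  let i₁ : G ≅ E.inverse.obj M := iso ≪≫ CurveTensor.commIso M (CohB1.tensorPow L n)
  have hPf : FlatMod.IsFinLocFree (CohB1.tensorPow L n) := fun x =>
    let ⟨U, hx, h⟩ := InvEnd.isFinLocFreeOfRank_one hP x; ⟨U, 1, hx, h⟩
  have hC := CurveTensor.isCoh_tensor hPf (show Coh.IsCoh M from ⟨hM, hft⟩)
  have hGq : Coh.IsQCoh G := (QCoh.isQCoh_iff_iso i₁).2 hC.1
  haveI : SheafOfModules.IsFiniteType (R := X.ringCatSheaf) G := (QCoh.isCoh_of_epi i₁.inv hC hGq).2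
  obtain ⟨k, t, ht⟩ := exists_fin_generatedBy G (fun x => FDescent.finite_stalk G x) hs
  obtain ⟨p, hp⟩ := InvX.exists_epi_freeMod ht
  refine ⟨E.functor.obj (FlatMod.freeMod X k), E.functor.map (p ≫ i₁.hom) ≫ E.counit.app M, ?_, inferInstance⟩
  exact KFlatLib.isFinLocFree_tensor hDf fun x =>
    let ⟨U, hx, h⟩ := SlopeBound.isFinLocFreeOfRank_freeMod k x; ⟨U, k, hx, h⟩

end Groth.Agent.ResPropLib
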