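import Groth.Agent.QCoh.SerreFT
import Groth.Agent.QCoh.PullbackBC
import Groth.Agent.QCoh.Pullback
import Groth.Agent.KFlatLib.Perfect.LocFree
import Groth.Prelude.Def_PerfAux

/-!
# The resolution property along affine morphisms
-/

universe u

set_option linter.style.haveILetI false
set_option backward.isDefEq.respectTransparency false
set_option backward.isDefEq.respectTransparency.types false

open CategoryTheory CategoryTheory.Limits AlgebraicGeometry TopologicalSpace Opposite

namespace Groth.Agent.ResPropLib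

open Groth.Agent.QCoh Groth.Agent.QCoh.SerreFT

theorem homEquiv_symm_app_pullSec {X Y : Scheme.{u}} (f : X ⟶ Y) {A : Y.Modules} {M : X.Modules}
    (v : A ⟶ (Scheme.Modules.pushforward f).obj M) (V : Y.Opens) (x : Γ(A, V)) :
    (((Scheme.Modules.pullbackPushforwardAdjunction f).homEquiv A M).symm v).app (f ⁻¹ᵁ V)
      (pullSec f A (le_refl (f ⁻¹ᵁ V)) x) = (show Γ(M, f ⁻¹ᵁ V) from v.app V x) := by
  obtain ⟨φ, rfl⟩ := ((Scheme.Modules.pullbackPushforwardAdjunction f).homEquiv A M).surjective v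
  rw [Equiv.symm_apply_apply, Adjunction.homEquiv_unit]
  exact (map_app_comm φ (homOfLE (le_refl (f ⁻¹ᵁ V))) _).trans (map_id' _ _)

theorem hasResolutionProperty_of_isAffineHom {X Y : Scheme.{u}} (f : X ⟶ Y) [IsAffineHom f]
    [CompactSpace Y] [QuasiSeparatedSpace Y] (hY : PerfAux.HasResolutionProperty Y) :
    PerfAux.HasResolutionProperty X := by
  classical
  intro M hM hft
  obtain ⟨F, hF⟩ := isCompact_univ.elim_finite_subcover (fun V : Y.affineOpens => (V.1 : Set Y))
    (fun V => V.1.2) fun y _ => by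
      obtain ⟨V, hV, hyV⟩ := exists_affine_mem y
      exact Set.mem_iUnion.2 ⟨⟨V, hV⟩, hyV⟩
  let W : F → X.Opens := fun k => f ⁻¹ᵁ k.1.1
  have hW : ∀ k, IsAffineOpen (W k) := fun k => k.1.2.preimage f
  choose T hT using fun k => (finite_of_isFT hM hft (hW k)).fg_top
  have hP : Coh.IsQCoh ((Scheme.Modules.pushforward f).obj M) := isQCoh_pushforward f hM
  let β := Σ k : F, T k
  obtain ⟨A, j, -, hA, hAt, hs⟩ := exists_ft_containing hP (fun m : β => m.1.1.1) (fun m => m.1.1.2)
    (fun m : β => (show Γ((Scheme.Modules.pushforward f).obj M, m.1.1.1) from (m.2.1 : Γ(M, W m.1))))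
  obtain ⟨E, π, hE, hπ⟩ := hY A hA hAt
  let ψ := ((Scheme.Modules.pullbackPushforwardAdjunction f).homEquiv E M).symm (π ≫ j)
  refine ⟨(Scheme.Modules.pullback f).obj E, ψ, KFlatLib.isFinLocFree_pullback f hE, ?_⟩
  have hEq : Coh.IsQCoh E := isQCoh_of_isFinLocFree hE
  have hQ := isQCoh_cokernel (isQCoh_pullback f hEq) hM ψ
  haveI := hπ
  refine Preadditive.epi_of_cokernel_zero
    ((isZero_of_cover hQ W hW ?_ fun k => subsingleton_of_forall_eq 0 fun q => ?_).eq_of_tgt _ _)
  · intro x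
    obtain ⟨V, hV, hxV⟩ := Set.mem_iUnion₂.1 (hF (Set.mem_univ (f x)))
    exact ⟨⟨V, hV⟩, hxV⟩
  · obtain ⟨m, rfl⟩ := app_surjective_of_epi hM hQ (cokernel.π ψ) (hW k) q
    show appLin (cokernel.π ψ) (W k) m = 0
    have hm : m ∈ Submodule.span Γ(X, W k) (T k : Set Γ(M, W k)) := by rw [hT k]; trivial
    refine (Submodule.span_le (p := LinearMap.ker (appLin (cokernel.π ψ) (W k)))).2 ?_ hm
    intro t ht
    obtain ⟨w, hw⟩ := hs ⟨k, ⟨t, ht⟩⟩
    obtain ⟨e, he⟩ := app_surjective_of_epi hEq hA π k.1.2 w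
    have h : ψ.app (W k) (pullSec f E (le_refl _) e) = t := by
      rw [homEquiv_symm_app_pullSec]
      show j.app k.1.1 (π.app k.1.1 e) = _
      rw [he, hw]
    show (cokernel.π ψ).app (W k) t = 0
    rw [← h]
    exact congr(($(cokernel.condition ψ)).app (W k) (pullSec f E (le_refl _) e))

end Groth.Agent.ResPropLib
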